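import Cfsg.Agent.Lib.Perm.Zassenhaus.Swap
import Cfsg.Agent.Lib.Invol.TwoClasses
import Cfsg.Agent.Lib.Invol.Basic
import Mathlib

/-!
# Two-transitive groups with an involution centralizer of constant fixity

If all non-identity elements of the centralizer of an involution `t` fix the same number `i` of
points then `|C(t)|` divides `n - i`, hence every element interchanging two points is conjugate
to `t`, and two-point stabilisers are abelian, inverted by the interchanging involutions.
-/

set_option autoImplicit false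
set_option linter.unusedSectionVars false
set_option linter.style.haveILetI false

namespace CfsgLib.Perm.ConstFix

open MulAction Subgroup

variable {G Ω : Type*} [Group G] [MulAction G Ω]

/-- All non-identity elements of the centralizer of the involution `t` fix exactly `i` points. -/
structure Hyp (Ω : Type*) {G : Type*} [Group G] [MulAction G Ω] (i : ℕ) (t : G) : Prop where
  two : IsMultiplyPretransitive G Ω 2
  faith : FaithfulSMul G Ω
  inv : orderOf t = 2
  fix : ∀ g : G, Commute g t → g ≠ 1 → Nat.card (fixedBy Ω g) = i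

/-- The two-point stabiliser. -/
abbrev pairStab (G : Type*) {Ω : Type*} [Group G] [MulAction G Ω] (a b : Ω) : Subgroup G :=
  stabilizer G a ⊓ stabilizer G b

/-- An involutive map has as many fixed points, modulo two, as there are elements. -/
theorem card_fixed_modEq {α : Type*} [Finite α] (f : α → α) (hf : ∀ x, f (f x) = x) :
    Nat.card α ≡ Nat.card {x : α // f x = x} [MOD 2] := by
  classical
  haveI := Fintype.ofFinite α
  haveI : Fact (Nat.Prime 2) := ⟨Nat.prime_two⟩
  let F : Function.End α := f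
  have h : F ^ 2 ^ 1 = 1 := by
    rw [pow_one, pow_two]
    funext x
    exact hf x
  have h2 := Equiv.Perm.card_fixedPoints_modEq (p := 2) (n := 1) h
  rw [Nat.card_eq_fintype_card, Nat.card_eq_fintype_card]
  refine h2.trans (Eq.subst (motive := fun m => _ ≡ m [MOD 2]) ?_ rfl)
  exact Fintype.card_congr (Equiv.subtypeEquivRight fun x => Iff.rfl)

namespace Hyp

variable {i : ℕ} {t : G}

theorem fix_self (H : Hyp Ω i t) : Nat.card (fixedBy Ω t) = i :=
  H.fix t (Commute.refl t) (Invol.invol_ne_one H.inv)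

theorem conj (H : Hyp Ω i t) (g : G) : Hyp Ω i (g * t * g⁻¹) := by
  refine ⟨H.two, H.faith, Invol.invol_conj H.inv g, fun h hh h1 => ?_⟩
  have hc : Commute (g⁻¹ * h * g) t := by
    have := hh.eq
    show g⁻¹ * h * g * t = t * (g⁻¹ * h * g)
    calc g⁻¹ * h * g * t = g⁻¹ * (h * (g * t * g⁻¹)) * g := by group
      _ = g⁻¹ * (g * t * g⁻¹ * h) * g := by rw [this]
      _ = t * (g⁻¹ * h * g) := by group
  have hne : g⁻¹ * h * g ≠ 1 := fun e => h1 <| by
    have : g * (g⁻¹ * h * g) * g⁻¹ = g * 1 * g⁻¹ := by rw [e]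
    simpa [mul_assoc] using this
  rw [← H.fix _ hc hne]
  refine Nat.card_congr ((toPerm g⁻¹).subtypeEquiv fun x => ?_)
  show h • x = x ↔ (g⁻¹ * h * g) • (g⁻¹ • x) = g⁻¹ • x
  rw [mul_smul, mul_smul, smul_inv_smul, smul_left_cancel_iff]

theorem of_isConj (H : Hyp Ω i t) {w : G} (hw : IsConj t w) : Hyp Ω i w := by
  obtain ⟨g, rfl⟩ := isConj_iff.1 hw
  exact H.conj g

theorem exists_pair (H : Hyp Ω i t) {a b c d : Ω} (hab : a ≠ b) (hcd : c ≠ d) :
    ∃ g : G, g • a = c ∧ g • b = d := is_two_pretransitive_iff.1 H.two hab hcd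

variable [Finite G] [Fintype Ω]

theorem exists_moved (H : Hyp Ω i t) : ∃ x : Ω, t • x ≠ x := by
  by_contra h
  push Not at h
  haveI := H.faith
  exact Invol.invol_ne_one H.inv (eq_of_smul_eq_smul (α := Ω) fun x => by rw [h x, one_smul])

theorem lt_card (H : Hyp Ω i t) : i < Fintype.card Ω := by
  rw [← H.fix_self, ← Nat.card_eq_fintype_card]
  obtain ⟨x, hx⟩ := H.exists_moved
  exact Finite.card_subtype_lt (p := fun y => t • y = y) hx

/-- Burnside's orbit count gives that `|C(t)|` divides `n - i`. -/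
theorem card_centralizer_dvd (H : Hyp Ω i t) :
    Nat.card (centralizer ({t} : Set G)) ∣ Fintype.card Ω - i := by
  classical
  obtain ⟨C, hC⟩ : ∃ C, C = centralizer ({t} : Set G) := ⟨_, rfl⟩
  rw [← hC]
  haveI := Fintype.ofFinite G
  haveI := Fintype.ofFinite C
  haveI : Fintype (orbitRel.Quotient C Ω) := Fintype.ofFinite _
  have hB := sum_card_fixedBy_eq_card_orbits_mul_card_group C Ω
  have hone : Fintype.card (fixedBy Ω (1 : C)) = Fintype.card Ω :=
    Fintype.card_congr ((Equiv.setCongr (fixedBy_one_eq_univ Ω C)).trans (Equiv.Set.univ Ω))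
  have hrest : ∀ g ∈ (Finset.univ.erase (1 : C)), Fintype.card (fixedBy Ω g) = i := by
    intro g hg
    have hg1 : (g : G) ≠ 1 := fun e => (Finset.mem_erase.1 hg).1 (Subtype.ext e)
    have hgc : Commute (g : G) t := by
      have : (g : G) ∈ centralizer ({t} : Set G) := hC.le g.2
      exact mem_centralizer_singleton_iff.1 this
    rw [← Nat.card_eq_fintype_card, ← H.fix _ hgc hg1]
    rfl
  rw [← Finset.add_sum_erase _ _ (Finset.mem_univ (1 : C)), hone, Finset.sum_const_nat hrest,
    Finset.card_erase_of_mem (Finset.mem_univ _), Finset.card_univ] at hB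
  obtain ⟨m, hm⟩ : ∃ m, m = Fintype.card (orbitRel.Quotient C Ω) := ⟨_, rfl⟩
  obtain ⟨c, hc⟩ : ∃ c, c = Fintype.card C := ⟨_, rfl⟩
  rw [← hm, ← hc] at hB
  rw [Nat.card_eq_fintype_card, ← hc]
  have hc0 : 0 < c := hc ▸ Fintype.card_pos
  have hlt := H.lt_card
  refine (Nat.dvd_add_iff_left (dvd_mul_right c i)).2 ⟨m, ?_⟩
  obtain ⟨c', rfl⟩ : ∃ c', c = c' + 1 := ⟨c - 1, by omega⟩
  rw [Nat.add_sub_cancel] at hB
  have : (c' + 1) * i = c' * i + i := by ring
  have hcomm : (c' + 1) * m = m * (c' + 1) := mul_comm _ _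
  omega

theorem card_moved (H : Hyp Ω i t) :
    Nat.card {x : Ω // t • x ≠ x} = Fintype.card Ω - i := by
  classical
  rw [Nat.card_eq_fintype_card, Fintype.card_subtype_compl]
  congr 1
  rw [← Nat.card_eq_fintype_card]
  exact H.fix_self

/-- The centralizer has exactly as many elements as `t` moves points. -/
theorem card_moved_eq (H : Hyp Ω i t) :
    Fintype.card Ω - i = Nat.card (centralizer ({t} : Set G)) := by
  classical
  refine le_antisymm ?_ (Nat.le_of_dvd (by have := H.lt_card; omega) H.card_centralizer_dvd)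
  obtain ⟨x₀, hx₀⟩ := H.exists_moved
  have hex : ∀ x y : Ω, ∃ g : G, x ≠ y → g • x₀ = x ∧ g • (t • x₀) = y := by
    intro x y
    by_cases h : x = y
    · exact ⟨1, fun h' => absurd h h'⟩
    · obtain ⟨g, hg⟩ := H.exists_pair (Ne.symm hx₀) h
      exact ⟨g, fun _ => hg⟩
  choose k hk using hex
  have key : Nat.card {w : G // IsConj t w} * (Fintype.card Ω - i) ≤ Nat.card G := by
    have hsigma : Nat.card ((w : {w : G // IsConj t w}) × {x : Ω // (w : G) • x ≠ x}) =
        Nat.card {w : G // IsConj t w} * (Fintype.card Ω - i) := by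
      haveI := Fintype.ofFinite {w : G // IsConj t w}
      rw [Nat.card_sigma, Finset.sum_const_nat (m := Fintype.card Ω - i)
        (fun w _ => (H.of_isConj w.2).card_moved), Finset.card_univ, Nat.card_eq_fintype_card]
    rw [← hsigma]
    refine Nat.card_le_card_of_injective (fun p => (p.1 : G) * k p.2.1 ((p.1 : G) • p.2.1)) ?_
    have himg : ∀ (w : G) (x : Ω), IsConj t w → w • x ≠ x →
        (w * k x (w • x)) • x₀ = w • x ∧ (w * k x (w • x)) • (t • x₀) = x := by
      intro w x hw hx
      obtain ⟨h1, h2⟩ := hk x (w • x) (Ne.symm hx)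
      refine ⟨by rw [mul_smul, h1], ?_⟩
      rw [mul_smul, h2, ← mul_smul, Invol.invol_mul_self (H.of_isConj hw).inv, one_smul]
    rintro ⟨⟨w, hw⟩, ⟨x, hx⟩⟩ ⟨⟨w', hw'⟩, ⟨x', hx'⟩⟩ e
    obtain ⟨a1, b1⟩ := himg w x hw hx
    obtain ⟨a2, b2⟩ := himg w' x' hw' hx'
    change w * k x (w • x) = w' * k x' (w' • x') at e
    rw [e] at a1 b1
    obtain rfl : x = x' := b1.symm.trans b2
    have eww : w • x = w' • x := a1.symm.trans a2
    rw [← eww] at e
    obtain rfl : w = w' := mul_right_cancel e
    rfl
  rw [← Invol.card_isConj_mul t] at key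
  haveI : Nonempty {w : G // IsConj t w} := ⟨⟨t, IsConj.refl t⟩⟩
  exact Nat.le_of_mul_le_mul_left key Nat.card_pos

theorem card_group (H : Hyp Ω i t) {a b : Ω} (hab : a ≠ b) :
    Nat.card G = Fintype.card Ω * (Fintype.card Ω - 1) * Nat.card (pairStab G a b) := by
  classical
  haveI := H.two
  haveI : IsPretransitive G Ω := isPretransitive_of_is_two_pretransitive
  have h1 : Nat.card G = Fintype.card Ω * Nat.card (stabilizer G a) := by
    rw [← Subgroup.card_mul_index (stabilizer G a), index_stabilizer_of_transitive,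
      Nat.card_eq_fintype_card (α := Ω), mul_comm]
  have horb : orbit (stabilizer G a) b = {c | c ≠ a} := by
    ext c
    constructor
    · rintro ⟨v, rfl⟩ h
      exact hab (smul_left_cancel v.1 (v.2.trans h.symm))
    · intro hc
      obtain ⟨g, e1, e2⟩ := H.exists_pair hab (Ne.symm hc)
      exact ⟨⟨g, e1⟩, e2⟩
  have hst : Nat.card (stabilizer (stabilizer G a) b) = Nat.card (pairStab G a b) :=
    Nat.card_congr
      { toFun := fun v => ⟨v.1.1, v.1.2, v.2⟩
        invFun := fun u => ⟨⟨u.1, u.2.1⟩, u.2.2⟩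
        left_inv := fun _ => rfl
        right_inv := fun _ => rfl }
  rw [h1, ← Subgroup.card_mul_index (stabilizer (stabilizer G a) b), hst, index_stabilizer, horb,
    Set.ncard_eq_toFinset_card', Set.toFinset_setOf, Finset.filter_ne',
    Finset.card_erase_of_mem (Finset.mem_univ a), Finset.card_univ]
  ring

/-- Every element interchanging two points is conjugate to `t`. -/
theorem swap_isConj (H : Hyp Ω i t) {a b : Ω} (hab : a ≠ b) {g : G} (hga : g • a = b)
    (hgb : g • b = a) : IsConj t g := by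
  classical
  haveI := Fintype.ofFinite G
  obtain ⟨I, hI⟩ : ∃ I : Finset G, I = Finset.univ.filter (fun w => IsConj t w) := ⟨_, rfl⟩
  have hinv : ∀ w ∈ I, ∀ x : Ω, w • w • x = x := by
    intro w hw x
    rw [hI] at hw
    rw [← mul_smul, Invol.invol_mul_self (H.of_isConj (Finset.mem_filter.1 hw).2).inv, one_smul]
  have hmove : ∀ w ∈ I, Fintype.card Ω - i ≤ (Finset.univ.filter (fun x : Ω => w • x ≠ x)).card := by
    intro w hw
    rw [hI] at hw
    have hf := (H.of_isConj (Finset.mem_filter.1 hw).2).fix_self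
    have hf' : (Finset.univ.filter (fun x : Ω => w • x = x)).card = i := by
      rw [← Fintype.card_subtype, ← Nat.card_eq_fintype_card]
      exact hf
    have := Finset.card_filter_add_card_filter_not (s := (Finset.univ : Finset Ω))
      (fun x : Ω => w • x = x)
    rw [Finset.card_univ, hf'] at this
    simp only [ne_eq]
    omega
  have hIc : I.card * Nat.card (centralizer ({t} : Set G)) = Nat.card G := by
    rw [← Invol.card_isConj_mul t, hI, ← Fintype.card_subtype, ← Nat.card_eq_fintype_card]
  have hcard : (Finset.univ.offDiag : Finset (Ω × Ω)).card *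
      Nat.card ↥(stabilizer G a ⊓ stabilizer G b) ≤ I.card * (Fintype.card Ω - i) := by
    rw [Finset.offDiag_card, Finset.card_univ, ← Nat.mul_sub_one, ← H.card_group hab, ← hIc]
    exact Nat.mul_le_mul_left _ (Nat.le_of_dvd (by have := H.lt_card; omega) H.card_centralizer_dvd)
  have := ZSwap.all_swappers H.two hab I (Fintype.card Ω - i) hinv hmove hcard hga hgb
  rw [hI] at this
  exact (Finset.mem_filter.1 this).2

theorem swap_invol (H : Hyp Ω i t) {a b : Ω} (hab : a ≠ b) {g : G} (hga : g • a = b)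
    (hgb : g • b = a) : orderOf g = 2 := (H.of_isConj (H.swap_isConj hab hga hgb)).inv

theorem invol_isConj (H : Hyp Ω i t) {w : G} (hw : orderOf w = 2) : IsConj t w := by
  haveI := H.faith
  obtain ⟨x, hx⟩ : ∃ x : Ω, w • x ≠ x := by
    by_contra h
    push Not at h
    exact Invol.invol_ne_one hw (eq_of_smul_eq_smul (α := Ω) fun x => by rw [h x, one_smul])
  exact H.swap_isConj (Ne.symm hx) rfl (by rw [← mul_smul, Invol.invol_mul_self hw, one_smul])

theorem exists_swapper (H : Hyp Ω i t) {a b : Ω} (hab : a ≠ b) :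
    ∃ u : G, orderOf u = 2 ∧ u • a = b ∧ u • b = a := by
  obtain ⟨g, h1, h2⟩ := H.exists_pair hab hab.symm
  exact ⟨g, H.swap_invol hab h1 h2, h1, h2⟩

/-- Interchanging elements invert the two-point stabiliser, which is therefore abelian. -/
theorem inverts (H : Hyp Ω i t) {a b : Ω} (hab : a ≠ b) {u : G} (hua : u • a = b) (hub : u • b = a) :
    (∀ h ∈ pairStab G a b, u * h * u⁻¹ = h⁻¹) ∧
      ∀ h ∈ pairStab G a b, ∀ k ∈ pairStab G a b, h * k = k * h :=
  haveI := Fintype.ofFinite G
  haveI : DecidableEq Ω := Classical.decEq Ω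
  ZSwap.inverted_of_swappers (fun _ h1 h2 => Invol.invol_mul_self (H.swap_invol hab h1 h2)) hua hub

theorem pairStab_comm (H : Hyp Ω i t) {a b : Ω} (hab : a ≠ b) {h k : G}
    (hh : h ∈ pairStab G a b) (hk : k ∈ pairStab G a b) : h * k = k * h := by
  obtain ⟨u, -, hua, hub⟩ := H.exists_swapper hab
  exact (H.inverts hab hua hub).2 h hh k hk

end Hyp

end CfsgLib.Perm.ConstFix
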