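import Cfsg.Agent.Lib.Perm.ConstantFixity.Basic

/-!
# Constant fixity at least two forces fixity two
-/

set_option autoImplicit false
set_option linter.unusedSectionVars false
set_option linter.style.haveILetI false

namespace CfsgLib.Perm.ConstFix

open MulAction Subgroup

namespace Hyp

variable {G Ω : Type*} [Group G] [MulAction G Ω] [Finite G] [Fintype Ω] {i : ℕ} {t : G}

/-- An element of `C(t)` not fixing `Fix t` pointwise has order at most two. -/
theorem sq_of_moves (H : Hyp Ω i t) {g : G} (hg : Commute g t) {p : Ω} (hp : t • p = p)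
    (hm : g • p ≠ p) : g * g = 1 := by
  by_contra h2
  have hg1 : g ≠ 1 := fun e => h2 (by rw [e, one_mul])
  have hgt1 : g * t ≠ 1 := fun e => hm <| by
    rw [eq_inv_of_mul_eq_one_left e, Invol.invol_inv H.inv]
    exact hp
  have hsq : (g * t) * (g * t) = g * g := by
    calc (g * t) * (g * t) = g * (t * g) * t := by group
      _ = g * (g * t) * t := by rw [hg.eq]
      _ = g * g * (t * t) := by group
      _ = g * g := by rw [Invol.invol_mul_self H.inv, mul_one]
  have hsub : ∀ h : G, fixedBy Ω h ⊆ fixedBy Ω (h * h) := fun h x hx => by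
    show (h * h) • x = x
    rw [mul_smul, show h • x = x from hx, show h • x = x from hx]
  have hc2 : Commute (g * g) t := hg.mul_left hg
  have hct : Commute (g * t) t := hg.mul_left (Commute.refl t)
  have e1 : fixedBy Ω g = fixedBy Ω (g * g) :=
    Set.eq_of_subset_of_ncard_le (hsub g) (by
      rw [← Nat.card_coe_set_eq, ← Nat.card_coe_set_eq, H.fix _ hg hg1, H.fix _ hc2 h2])
  have e2 : fixedBy Ω (g * t) = fixedBy Ω (g * g) := by
    refine Set.eq_of_subset_of_ncard_le (hsq ▸ hsub (g * t)) ?_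
    rw [← Nat.card_coe_set_eq, ← Nat.card_coe_set_eq, H.fix _ hct hgt1, H.fix _ hc2 h2]
  have e3 : fixedBy Ω g ⊆ fixedBy Ω t := fun x hx => by
    have hx' : x ∈ fixedBy Ω (g * t) := by rw [e2, ← e1]; exact hx
    have hx'' : (g * t) • x = x := hx'
    rw [mul_smul] at hx''
    have hgx : g • x = x := hx
    show t • x = x
    exact smul_left_cancel g (hx''.trans hgx.symm)
  have e4 : fixedBy Ω g = fixedBy Ω t :=
    Set.eq_of_subset_of_ncard_le e3 (by
      rw [← Nat.card_coe_set_eq, ← Nat.card_coe_set_eq, H.fix _ hg hg1, H.fix_self])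
  have : p ∈ fixedBy Ω g := by rw [e4]; exact hp
  exact hm this

/-- An involution fixing two points of a pair commutes with every element interchanging them. -/
theorem swap_commute (H : Hyp Ω i t) {a b : Ω} (hab : a ≠ b) (ha : t • a = a) (hb : t • b = b)
    {u : G} (hua : u • a = b) (hub : u • b = a) : Commute u t := by
  have h := (H.inverts hab hua hub).1 t ⟨ha, hb⟩
  rw [Invol.invol_inv H.inv] at h
  exact mul_inv_eq_iff_eq_mul.1 h

theorem stab_le (H : Hyp Ω i t) {a b : Ω} (hab : a ≠ b) (ha : t • a = a) (hb : t • b = b)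
    {g : G} (hga : g • a = a) (hgb : g • b = b) : Commute g t :=
  H.pairStab_comm hab (h := g) (k := t) ⟨hga, hgb⟩ ⟨ha, hb⟩

/-- If all elements of `C(t)` commute and are involutions, `N(C(t))` is transitive on them. -/
theorem card_mul_pred_dvd (H : Hyp Ω i t) (hexp : ∀ g : G, Commute g t → g * g = 1)
    (hcomm : ∀ g h : G, Commute g t → Commute h t → g * h = h * g) :
    Nat.card (centralizer ({t} : Set G)) * (Nat.card (centralizer ({t} : Set G)) - 1) ∣
      Nat.card G := by
  classical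
  obtain ⟨C, hC⟩ : ∃ C, C = centralizer ({t} : Set G) := ⟨_, rfl⟩
  rw [← hC]
  have hmem : ∀ g : G, g ∈ C ↔ Commute g t := fun g => by
    rw [hC]; exact mem_centralizer_singleton_iff
  obtain ⟨N, hN⟩ : ∃ N, N = normalizer (C : Set G) := ⟨_, rfl⟩
  have hconj : ∀ z : {z : G // z ∈ C ∧ z ≠ 1}, ∃ g : N, (g : G) * t * (g : G)⁻¹ = z.1 := by
    rintro ⟨z, hz, hz1⟩
    have hzi : orderOf z = 2 := Invol.invol_iff.2 ⟨hexp z ((hmem z).1 hz), hz1⟩
    have hzc := H.invol_isConj hzi
    obtain ⟨g, hg⟩ := isConj_iff.1 hzc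
    have hle : C ≤ centralizer ({z} : Set G) := fun y hy =>
      mem_centralizer_singleton_iff.2 (hcomm y z ((hmem y).1 hy) ((hmem z).1 hz))
    have heq : C = centralizer ({z} : Set G) := Subgroup.eq_of_le_of_card_ge hle (by
      rw [← (H.of_isConj hzc).card_moved_eq, H.card_moved_eq, hC])
    refine ⟨⟨g, ?_⟩, hg⟩
    rw [hN, mem_normalizer_iff]
    intro y
    rw [show (g * y * g⁻¹ ∈ C ↔ g * y * g⁻¹ ∈ centralizer ({z} : Set G)) from by rw [← heq],
      hmem, mem_centralizer_singleton_iff, ← hg, commute_iff_eq]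
    constructor
    · intro h
      calc g * y * g⁻¹ * (g * t * g⁻¹) = g * (y * t) * g⁻¹ := by group
        _ = g * (t * y) * g⁻¹ := by rw [h]
        _ = g * t * g⁻¹ * (g * y * g⁻¹) := by group
    · intro h
      have : g * (y * t) * g⁻¹ = g * (t * y) * g⁻¹ := by
        calc g * (y * t) * g⁻¹ = g * y * g⁻¹ * (g * t * g⁻¹) := by group
          _ = g * t * g⁻¹ * (g * y * g⁻¹) := h
          _ = g * (t * y) * g⁻¹ := by group
      exact mul_left_cancel (mul_right_cancel this)
  choose s hs using hconj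
  have hCN : C ≤ N := hN ▸ Subgroup.le_normalizer
  have e : N ≃ {z : G // z ∈ C ∧ z ≠ 1} × C :=
    { toFun := fun g => (⟨(g : G) * t * (g : G)⁻¹, by
          have htC : t ∈ C := (hmem t).2 (Commute.refl t)
          have hg : (g : G) ∈ normalizer (C : Set G) := hN.le g.2
          refine ⟨(mem_normalizer_iff.1 hg t).1 htC, fun e => Invol.invol_ne_one H.inv ?_⟩
          exact conj_eq_one_iff.1 e⟩,
        ⟨(s ⟨(g : G) * t * (g : G)⁻¹, by
          have htC : t ∈ C := (hmem t).2 (Commute.refl t)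
          have hg : (g : G) ∈ normalizer (C : Set G) := hN.le g.2
          refine ⟨(mem_normalizer_iff.1 hg t).1 htC, fun e => Invol.invol_ne_one H.inv ?_⟩
          exact conj_eq_one_iff.1 e⟩ : G)⁻¹ * g, by
            rw [hmem]
            generalize_proofs pf
            have h := hs ⟨(g : G) * t * (g : G)⁻¹, pf⟩
            obtain ⟨r, hr⟩ : ∃ r, r = (s ⟨(g : G) * t * (g : G)⁻¹, pf⟩ : G) := ⟨_, rfl⟩
            rw [← hr] at h ⊢
            show r⁻¹ * g * t = t * (r⁻¹ * g)
            calc r⁻¹ * g * t = r⁻¹ * ((g : G) * t * (g : G)⁻¹) * g := by group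
              _ = r⁻¹ * (r * t * r⁻¹) * g := by rw [h]
              _ = t * (r⁻¹ * g) := by group⟩)
      invFun := fun p => ⟨(s p.1 : G) * p.2, mul_mem (s p.1).2 (hCN p.2.2)⟩
      left_inv := fun g => Subtype.ext (mul_inv_cancel_left _ _)
      right_inv := fun p => by
        have hz : ((s p.1 : G) * p.2) * t * ((s p.1 : G) * p.2)⁻¹ = p.1.1 := by
          rw [← hs p.1]
          have hp := ((hmem _).1 p.2.2).eq
          calc ((s p.1 : G) * p.2) * t * ((s p.1 : G) * p.2)⁻¹
              = (s p.1 : G) * ((p.2 : G) * t) * (p.2 : G)⁻¹ * (s p.1 : G)⁻¹ := by group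
            _ = (s p.1 : G) * (t * (p.2 : G)) * (p.2 : G)⁻¹ * (s p.1 : G)⁻¹ := by rw [hp]
            _ = (s p.1 : G) * t * (s p.1 : G)⁻¹ := by group
        refine Prod.ext (Subtype.ext hz) (Subtype.ext ?_)
        show (s _ : G)⁻¹ * ((s p.1 : G) * p.2) = p.2
        rw [show (⟨_, _⟩ : {z : G // z ∈ C ∧ z ≠ 1}) = p.1 from Subtype.ext hz]
        exact inv_mul_cancel_left _ _ }
  have h1 : Nat.card {z : G // z ∈ C ∧ z ≠ 1} = Nat.card C - 1 := by
    haveI := Fintype.ofFinite G
    rw [Nat.card_eq_fintype_card, Fintype.card_subtype, Nat.card_eq_fintype_card,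
      show Fintype.card C = (Finset.univ.filter (fun z => z ∈ C)).card from Fintype.card_subtype _,
      ← Finset.card_erase_of_mem (show (1 : G) ∈ Finset.univ.filter (fun z => z ∈ C) by simp)]
    congr 1
    ext z
    simp [and_comm]
  have := Subgroup.card_subgroup_dvd_card N
  rw [Nat.card_congr e, Nat.card_prod, h1, mul_comm] at this
  exact this

theorem two_of_two_le (H : Hyp Ω i t) (hi : 2 ≤ i) : i = 2 := by
  classical
  by_contra hne
  have hF : 2 < (fixedBy Ω t).ncard := by
    rw [← Nat.card_coe_set_eq, H.fix_self]; omega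
  obtain ⟨a, ha, b, hb, c, hc, hab, hac, hbc⟩ := (Set.two_lt_ncard (Set.toFinite _)).1 hF
  obtain ⟨u1, hu1, hu1a, hu1b⟩ := H.exists_swapper hab
  obtain ⟨u2, hu2, hu2a, hu2c⟩ := H.exists_swapper hac
  have c1 : Commute u1 t := H.swap_commute hab ha hb hu1a hu1b
  have c2 : Commute u2 t := H.swap_commute hac ha hc hu2a hu2c
  have hc12 : Commute (u1 * u2) t := c1.mul_left c2
  have hmv : ∃ p : Ω, t • p = p ∧ (u1 * u2) • p ≠ p := by
    refine ⟨c, hc, ?_⟩
    rw [mul_smul, hu2c, hu1a]
    exact hbc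
  obtain ⟨p, hp, hpm⟩ := hmv
  have h12 : (u1 * u2) * (u1 * u2) = 1 := H.sq_of_moves hc12 hp hpm
  have hs1 := Invol.invol_mul_self hu1
  have hs2 := Invol.invol_mul_self hu2
  have hexp : ∀ g : G, Commute g t → g * g = 1 := by
    intro g hg
    by_cases hall : ∀ q : Ω, t • q = q → g • q = q
    · have key : ∀ u : G, u * u = 1 → Commute u t → ∀ q : Ω, t • q = q → u • q ≠ q → u * g * u = g⁻¹ := by
        intro u hu hut q hq hqm
        have hm : (u * g) • q ≠ q := by rw [mul_smul, hall q hq]; exact hqm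
        have h := H.sq_of_moves (hut.mul_left hg) hq hm
        exact eq_inv_of_mul_eq_one_left (by rw [← h]; group)
      have i1 := key u1 hs1 c1 a ha (by rw [hu1a]; exact hab.symm)
      have i2 := key u2 hs2 c2 a ha (by rw [hu2a]; exact hac.symm)
      have i3 : (u1 * u2) * g * (u1 * u2) = g⁻¹ := key _ h12 hc12 p hp hpm
      have hcm : u2 * u1 = u1 * u2 := by
        have e : u1 * u2 = (u1 * u2)⁻¹ := eq_inv_of_mul_eq_one_left h12
        rw [mul_inv_rev, Invol.invol_inv hu1, Invol.invol_inv hu2] at e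
        exact e.symm
      have i1' : u1 * g⁻¹ * u1 = g := by
        rw [← i1]
        calc u1 * (u1 * g * u1) * u1 = (u1 * u1) * g * (u1 * u1) := by group
          _ = g := by rw [hs1, one_mul, mul_one]
      have i4 : (u1 * u2) * g * (u1 * u2) = g := by
        calc (u1 * u2) * g * (u1 * u2) = u1 * u2 * g * (u2 * u1) := by rw [hcm]
          _ = u1 * (u2 * g * u2) * u1 := by group
          _ = g := by rw [i2, i1']
      exact mul_eq_one_iff_eq_inv.2 (i4.symm.trans i3)
    · push Not at hall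
      obtain ⟨q, hq, hqm⟩ := hall
      exact H.sq_of_moves hg hq hqm
  have hcomm : ∀ g h : G, Commute g t → Commute h t → g * h = h * g := by
    intro g h hg hh
    have e := hexp (g * h) (hg.mul_left hh)
    have eg : g⁻¹ = g := inv_eq_of_mul_eq_one_right (hexp g hg)
    have eh : h⁻¹ = h := inv_eq_of_mul_eq_one_right (hexp h hh)
    calc g * h = (g * h)⁻¹ := eq_inv_of_mul_eq_one_left e
      _ = h⁻¹ * g⁻¹ := mul_inv_rev _ _
      _ = h * g := by rw [eg, eh]
  obtain ⟨C, hC⟩ : ∃ C, C = centralizer ({t} : Set G) := ⟨_, rfl⟩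
  have hmem : ∀ g : G, g ∈ C ↔ Commute g t := fun g => by
    rw [hC]; exact mem_centralizer_singleton_iff
  have horb : orbit C a = fixedBy Ω t := by
    ext x
    constructor
    · rintro ⟨g, rfl⟩
      show t • (g : G) • a = (g : G) • a
      rw [← mul_smul, ← ((hmem g).1 g.2).eq, mul_smul, show t • a = a from ha]
    · intro hx
      rcases eq_or_ne x a with rfl | hxa
      · exact mem_orbit_self x
      · obtain ⟨u, -, hua, hux⟩ := H.exists_swapper (Ne.symm hxa)
        exact ⟨⟨u, (hmem u).2 (H.swap_commute (Ne.symm hxa) ha hx hua hux)⟩, hua⟩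
  have hD : stabilizer C a = (pairStab G a b).subgroupOf C := by
    ext g
    rw [mem_stabilizer_iff, mem_subgroupOf]
    constructor
    · intro hga
      refine ⟨hga, ?_⟩
      show (g : G) • b = b
      have hga' : (g : G) • a = a := hga
      rw [← hu1a, ← mul_smul, hcomm _ _ ((hmem g).1 g.2) c1, mul_smul, hga']
    · intro h; exact h.1
  have hDC : pairStab G a b ≤ C := fun g hg => (hmem g).2 (H.stab_le hab ha hb hg.1 hg.2)
  obtain ⟨κ, hκ⟩ : ∃ κ, κ = Nat.card (pairStab G a b) := ⟨_, rfl⟩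
  obtain ⟨n, hn⟩ : ∃ n, n = Fintype.card Ω := ⟨_, rfl⟩
  obtain ⟨cc, hcc⟩ : ∃ cc, cc = Nat.card C := ⟨_, rfl⟩
  have hck : cc = i * κ := by
    rw [hcc, ← Subgroup.card_mul_index (stabilizer C a), index_stabilizer, horb,
      ← Nat.card_coe_set_eq, H.fix_self, hD,
      Nat.card_congr (Subgroup.subgroupOfEquivOfLe hDC).toEquiv, hκ, mul_comm]
  have hκ2 : 2 ≤ κ := by
    have ht : t ∈ pairStab G a b := ⟨ha, hb⟩
    have h := Subgroup.orderOf_dvd_natCard _ ht
    rw [H.inv, ← hκ] at h
    exact Nat.le_of_dvd (hκ ▸ Nat.card_pos) h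
  have hninc : n - i = cc := by
    rw [hn, hcc, hC]
    exact H.card_moved_eq
  have hnum : cc * (cc - 1) ∣ Nat.card G := by
    rw [hcc, hC]
    exact H.card_mul_pred_dvd hexp hcomm
  rw [H.card_group hab, ← hn, ← hκ] at hnum
  have hlt := H.lt_card
  rw [← hn] at hlt
  obtain ⟨N, hN⟩ : ∃ N, cc = N + 1 := ⟨cc - 1, by
    have : 0 < cc := hcc ▸ Nat.card_pos
    omega⟩
  have hnn : n = i * (κ + 1) := by
    rw [Nat.mul_succ, ← hck]; omega
  have hn1 : n - 1 = N + i := by omega
  rw [hN, Nat.add_sub_cancel, hn1, hnn, ← hN, hck] at hnum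
  have h3 : N ∣ (κ + 1) * (N + i) := by
    have : i * κ * N ∣ i * κ * ((κ + 1) * (N + i)) := by
      refine hnum.trans (dvd_of_eq ?_)
      ring
    exact Nat.dvd_of_mul_dvd_mul_left (Nat.mul_pos (by omega) (by omega)) this
  have h4 : N ∣ (κ + 1) * i := by
    have : N ∣ (κ + 1) * N + (κ + 1) * i := by rwa [← mul_add]
    exact (Nat.dvd_add_right (dvd_mul_left N (κ + 1))).1 this
  have h5 : (κ + 1) * i = N + (i + 1) := by
    have : (κ + 1) * i = i * κ + i := by ring
    omega
  rw [h5] at h4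
  have h6 : N ≤ i + 1 := Nat.le_of_dvd (by omega) ((Nat.dvd_add_right dvd_rfl).1 h4)
  have h7 : i * 2 ≤ i * κ := Nat.mul_le_mul_left i hκ2
  omega

/-- For fixity at least two, no non-identity element fixes three points. -/
theorem three_of_two_le (H : Hyp Ω i t) (hi : 2 ≤ i) {g : G} {a b c : Ω} (hab : a ≠ b) (hbc : b ≠ c)
    (hac : a ≠ c) (ha : g • a = a) (hb : g • b = b) (hc : g • c = c) : g = 1 := by
  classical
  have h2 := H.two_of_two_le hi
  have hF : 1 < (fixedBy Ω t).ncard := by rw [← Nat.card_coe_set_eq, H.fix_self]; omega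
  obtain ⟨a0, ha0, b0, hb0, hab0⟩ := (Set.one_lt_ncard (Set.toFinite _)).1 hF
  obtain ⟨k, hka, hkb⟩ := H.exists_pair hab0 hab
  have H' := H.conj k
  have hta : (k * t * k⁻¹) • a = a := by
    rw [← hka, mul_smul, mul_smul, inv_smul_smul, show t • a0 = a0 from ha0]
  have htb : (k * t * k⁻¹) • b = b := by
    rw [← hkb, mul_smul, mul_smul, inv_smul_smul, show t • b0 = b0 from hb0]
  by_contra hg1
  have hfix := H'.fix g (H'.stab_le hab hta htb ha hb) hg1
  have h3 : 2 < (fixedBy Ω g).ncard :=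
    (Set.two_lt_ncard (Set.toFinite _)).2 ⟨a, ha, b, hb, c, hc, hab, hac, hbc⟩
  rw [← Nat.card_coe_set_eq, hfix] at h3
  omega

end Hyp

end CfsgLib.Perm.ConstFix
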