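import Cfsg.Agent.Lib.Perm.ConstantFixity.Basic
import Cfsg.Agent.Lib.Invol.ZStar
import Cfsg.Agent.Lib.FT.NoMinSimple
import Cfsg.Agent.Lib.Coprime.Core

/-!
# Constant fixity at most one: three-point stabilisers are trivial
-/

set_option autoImplicit false
set_option linter.unusedSectionVars false
set_option linter.style.haveILetI false

namespace CfsgLib.Perm.ConstFix

open MulAction Subgroup
open scoped commutatorElement

variable (G Ω : Type*) [Group G] [MulAction G Ω]

/-- There is a regular normal subgroup. -/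
def HasRegularNormal : Prop :=
  ∃ R : Subgroup G, R.Normal ∧ (∀ x y : Ω, ∃ r ∈ R, r • x = y) ∧ ∀ x : Ω, ∀ r ∈ R, r • x = x → r = 1

variable {G Ω} [Finite G] [Fintype Ω]

/-- A non-trivial abelian normal subgroup of a faithful two-transitive group is regular. -/
theorem regular_of_abelian [FaithfulSMul G Ω] (h2 : IsMultiplyPretransitive G Ω 2) (A : Subgroup G)
    (hA : A.Normal) (hA1 : A ≠ ⊥) (hcomm : ∀ x ∈ A, ∀ y ∈ A, x * y = y * x) :
    HasRegularNormal G Ω := by
  haveI := hA
  haveI : IsPreprimitive G Ω := isPreprimitive_of_is_two_pretransitive h2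
  have hne : fixedPoints A Ω ≠ Set.univ := by
    intro h
    refine hA1 (eq_bot_iff.2 fun g hg => mem_bot.2 (eq_of_smul_eq_smul (α := Ω) fun x => ?_))
    have hx : x ∈ fixedPoints A Ω := h ▸ Set.mem_univ x
    rw [one_smul]
    exact hx ⟨g, hg⟩
  haveI : IsPretransitive A Ω := IsQuasiPreprimitive.isPretransitive_of_normal hne
  refine ⟨A, hA, fun x y => ?_, fun x r hr hx => ?_⟩
  · obtain ⟨g, hg⟩ := exists_smul_eq A x y
    exact ⟨g, g.2, hg⟩
  · refine eq_of_smul_eq_smul (α := Ω) fun y => ?_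
    obtain ⟨g, rfl⟩ := exists_smul_eq A x y
    show r • (g : G) • x = (1 : G) • (g : G) • x
    rw [one_smul, ← mul_smul, hcomm r hr g g.2, mul_smul, hx]

/-- A non-trivial solvable normal subgroup contains a non-trivial abelian normal subgroup. -/
theorem exists_nontrivial_abelian_normal_below {N : Subgroup G} [hN : N.Normal]
    [hs : Group.IsSolvable N] (h : N ≠ ⊥) :
    ∃ A : Subgroup G, A.Normal ∧ A ≠ ⊥ ∧ ∀ x ∈ A, ∀ y ∈ A, x * y = y * x := by
  classical
  have hex : ∃ n, derivedSeries N n = ⊥ := (Group.isSolvable_def N).1 inferInstance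
  have hspec := Nat.find_spec hex
  obtain ⟨m, hm⟩ : ∃ m, Nat.find hex = m + 1 := by
    refine ⟨Nat.find hex - 1, ?_⟩
    rcases Nat.eq_zero_or_pos (Nat.find hex) with h0 | h0
    · exfalso
      rw [h0, derivedSeries_zero] at hspec
      obtain ⟨x, hx, hx1⟩ := N.bot_or_exists_ne_one.resolve_left h
      have : (⟨x, hx⟩ : N) ∈ (⊥ : Subgroup N) := hspec ▸ Subgroup.mem_top _
      exact hx1 (congrArg Subtype.val (Subgroup.mem_bot.1 this))
    · omega
  haveI : (derivedSeries N m).Characteristic := derivedSeries_characteristic N m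
  refine ⟨(derivedSeries N m).map N.subtype, ConjAct.normal_of_characteristic_of_normal, ?_, ?_⟩
  · rw [ne_eq, Subgroup.map_eq_bot_iff_of_injective _ N.subtype_injective]
    exact Nat.find_min hex (by omega)
  · rintro _ ⟨x, hx, rfl⟩ _ ⟨y, hy, rfl⟩
    rw [hm, derivedSeries_succ] at hspec
    have h1 : ⁅x, y⁆ = 1 :=
      Subgroup.mem_bot.1 (hspec ▸ Subgroup.commutator_mem_commutator hx hy)
    exact congrArg N.subtype (commutatorElement_eq_one_iff_mul_comm.1 h1)

namespace Hyp

variable {i : ℕ} {t : G}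

/-- With fixity at most one, an element fixing two points commutes with no involution. -/
theorem not_commute_invol (H : Hyp Ω i t) (hi : i < 2) {g : G} (hg : g ≠ 1) {a b : Ω} (hab : a ≠ b)
    (ha : g • a = a) (hb : g • b = b) {w : G} (hw : orderOf w = 2) : ¬ Commute g w := by
  intro hc
  have h := (H.of_isConj (H.invol_isConj hw)).fix g hc hg
  have h2 : 1 < (fixedBy Ω g).ncard := (Set.one_lt_ncard (Set.toFinite _)).2 ⟨a, ha, b, hb, hab⟩
  rw [← Nat.card_coe_set_eq, h] at h2
  omega

theorem three_of_lt_two (H : Hyp Ω i t) (hi : i < 2) :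
    (∀ g : G, ∀ a b c : Ω, a ≠ b → b ≠ c → a ≠ c → g • a = a → g • b = b → g • c = c → g = 1) ∨
      HasRegularNormal G Ω := by
  classical
  haveI := H.faith
  by_contra hcon
  push Not at hcon
  obtain ⟨⟨j, a, b, c, hab, hbc, hac, hja, hjb, hjc, hj⟩, hreg⟩ := hcon
  have hinv : ∀ x y : Ω, x ≠ y → j • x = x → j • y = y → ∀ u : G, u • x = y → u • y = x →
      u * j * u⁻¹ = j⁻¹ := fun x y hxy h1 h2 u hu1 hu2 => (H.inverts hxy hu1 hu2).1 j ⟨h1, h2⟩
  obtain ⟨C, hC⟩ : ∃ C, C = centralizer ({j} : Set G) := ⟨_, rfl⟩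
  have hmemC : ∀ g : G, g ∈ C ↔ Commute g j := fun g => by
    rw [hC]; exact mem_centralizer_singleton_iff
  have hodd : Odd (Nat.card C) := by
    rw [← Nat.not_even_iff_odd, even_iff_two_dvd]
    intro h
    obtain ⟨w, hw⟩ := exists_prime_orderOf_dvd_card' 2 h
    have hw' : orderOf (w : G) = 2 := by rw [Subgroup.orderOf_coe]; exact hw
    exact H.not_commute_invol hi hj hab hja hjb hw' ((hmemC _).1 w.2).symm
  have horb : orbit C a = fixedBy Ω j := by
    ext y
    constructor
    · rintro ⟨g, rfl⟩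
      show j • (g : G) • a = (g : G) • a
      rw [← mul_smul, ← ((hmemC _).1 g.2).eq, mul_smul, hja]
    · intro hy
      rcases eq_or_ne y a with rfl | hya
      · exact mem_orbit_self y
      obtain ⟨z, hz, hza, hzy⟩ : ∃ z, j • z = z ∧ z ≠ a ∧ z ≠ y := by
        rcases eq_or_ne y b with rfl | hyb
        · exact ⟨c, hjc, hac.symm, hbc.symm⟩
        · exact ⟨b, hjb, hab.symm, Ne.symm hyb⟩
      obtain ⟨u1, hu1, h11, h12⟩ := H.exists_swapper (Ne.symm hza)
      obtain ⟨u2, hu2, h21, h22⟩ := H.exists_swapper hzy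
      refine ⟨⟨u2 * u1, (hmemC _).2 ?_⟩, ?_⟩
      · have e1 := hinv a z (Ne.symm hza) hja hz u1 h11 h12
        have e2 := hinv z y hzy hz hy u2 h21 h22
        show u2 * u1 * j = j * (u2 * u1)
        calc u2 * u1 * j = u2 * (u1 * j * u1⁻¹) * u1 := by group
          _ = u2 * j⁻¹ * u1 := by rw [e1]
          _ = (u2 * j * u2⁻¹)⁻¹ * (u2 * u1) := by group
          _ = j * (u2 * u1) := by rw [e2, inv_inv]
      · show (u2 * u1) • a = y
        rw [mul_smul, h11, h21]
  have hY : Odd (Nat.card (fixedBy Ω j)) := by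
    have h : Nat.card (fixedBy Ω j) ∣ Nat.card C := by
      rw [← horb, Nat.card_coe_set_eq, ← index_stabilizer]
      exact index_dvd_card _
    exact hodd.of_dvd_nat h
  obtain ⟨u, hu, hua, hub⟩ := H.exists_swapper hab
  have huj := hinv a b hab hja hjb u hua hub
  have hu2 := Invol.invol_mul_self hu
  have hju : u⁻¹ * j * u = j⁻¹ := by rw [Invol.invol_inv hu] at huj ⊢; exact huj
  -- the swapper has a fixed point on `Fix j`
  have hstab : ∀ p : Ω, j • p = p → j • u • p = u • p := by
    intro p hp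
    have e : j * u = u * j⁻¹ := by rw [← hju]; group
    rw [← mul_smul, e, mul_smul, inv_smul_eq_iff.2 hp.symm]
  let f : fixedBy Ω j → fixedBy Ω j := fun p => ⟨u • (p : Ω), hstab p p.2⟩
  have hf : ∀ p, f (f p) = p := fun p => Subtype.ext <| by
    show u • u • (p : Ω) = p
    rw [← mul_smul, hu2, one_smul]
  obtain ⟨d, hd⟩ : ∃ d : fixedBy Ω j, f d = d := by
    by_contra h
    push Not at h
    have hm := card_fixed_modEq f hf
    haveI : IsEmpty {x // f x = x} := ⟨fun x => h x.1 x.2⟩
    rw [Nat.card_of_isEmpty (α := {x // f x = x})] at hm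
    exact Nat.not_even_iff_odd.2 hY (even_iff_two_dvd.2 (Nat.modEq_zero_iff_dvd.1 hm))
  obtain ⟨d, hjd⟩ := d
  have hud : u • d = d := congrArg Subtype.val hd
  have Hu := H.of_isConj (H.invol_isConj hu)
  have hi1 : i = 1 := by
    have h := Hu.fix_self
    haveI : Nonempty (fixedBy Ω u) := ⟨⟨d, hud⟩⟩
    have := Nat.card_pos (α := fixedBy Ω u)
    omega
  have huniq : ∀ p : Ω, u • p = p → p = d := by
    intro p hp
    have h : (fixedBy Ω u).ncard ≤ 1 := by rw [← Nat.card_coe_set_eq, Hu.fix_self, hi1]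
    exact (Set.ncard_le_one (Set.toFinite _)).1 h p hp d hud
  have had : d ≠ a := fun e => hab (by rw [← hua, ← e, hud])
  obtain ⟨U, hU⟩ : ∃ U, U = centralizer ({u} : Set G) := ⟨_, rfl⟩
  have hmemU : ∀ g : G, g ∈ U ↔ Commute g u := fun g => by
    rw [hU]; exact mem_centralizer_singleton_iff
  have hUd : ∀ g ∈ U, g • d = d := by
    intro g hg
    refine huniq _ ?_
    rw [← mul_smul, ← ((hmemU g).1 hg).eq, mul_smul, hud]
  have horbU : orbit U a = {p | p ≠ d} := by
    refine Set.eq_of_subset_of_ncard_le ?_ ?_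
    · rintro _ ⟨g, rfl⟩ e
      exact had (smul_left_cancel (g : G) ((hUd g g.2).trans e.symm))
    · have htriv : stabilizer U a = ⊥ := by
        refine eq_bot_iff.2 fun g hg => mem_bot.2 (Subtype.ext ?_)
        by_contra hg1
        have h := Hu.fix g ((hmemU g).1 g.2) hg1
        have h2 : 1 < (fixedBy Ω (g : G)).ncard :=
          (Set.one_lt_ncard (Set.toFinite _)).2 ⟨a, hg, d, hUd g g.2, had.symm⟩
        rw [← Nat.card_coe_set_eq, h] at h2
        omega
      rw [← index_stabilizer, htriv, index_bot, hU, ← Hu.card_moved_eq, hi1,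
        Set.ncard_eq_toFinset_card', Set.toFinset_ofPred, Finset.filter_ne',
        Finset.card_erase_of_mem (Finset.mem_univ d), Finset.card_univ]
  -- every involution fixing `d` inverts `j`
  have hall : ∀ w : G, orderOf w = 2 → w • d = d → w * j * w⁻¹ = j⁻¹ := by
    intro w hw hwd
    obtain ⟨h, rfl⟩ := isConj_iff.1 ((H.invol_isConj hu).symm.trans (H.invol_isConj hw))
    have hhd : h • d = d := by
      have : u • h⁻¹ • d = h⁻¹ • d := by
        rw [eq_inv_smul_iff, ← mul_smul, ← mul_smul]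
        exact hwd
      exact inv_smul_eq_iff.1 (huniq _ this) |>.symm
    have hne : h⁻¹ • a ≠ d := fun e => had (by rw [← hhd, ← e, smul_inv_smul])
    obtain ⟨g, hg⟩ : h⁻¹ • a ∈ orbit U a := by rw [horbU]; exact hne
    obtain ⟨e, he⟩ : ∃ e, e = h * (g : G) := ⟨_, rfl⟩
    have hea : e • a = a := by
      rw [he, mul_smul, show (g : G) • a = h⁻¹ • a from hg, smul_inv_smul]
    have hed : e • d = d := by rw [he, mul_smul, hUd g g.2, hhd]
    have hew : e * u * e⁻¹ = h * u * h⁻¹ := by
      rw [he]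
      calc h * (g : G) * u * (h * (g : G))⁻¹ = h * ((g : G) * u) * (g : G)⁻¹ * h⁻¹ := by group
        _ = h * u * h⁻¹ := by rw [((hmemU g).1 g.2).eq]; group
    have hej : e * j = j * e := H.pairStab_comm had (h := e) (k := j) ⟨hed, hea⟩ ⟨hjd, hja⟩
    rw [← hew]
    calc e * u * e⁻¹ * j * (e * u * e⁻¹)⁻¹ = e * u * e⁻¹ * (j * e) * u⁻¹ * e⁻¹ := by group
      _ = e * u * e⁻¹ * (e * j) * u⁻¹ * e⁻¹ := by rw [hej]
      _ = e * (u * j * u⁻¹) * e⁻¹ := by group
      _ = e * j⁻¹ * e⁻¹ := by rw [huj]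
      _ = (e * j * e⁻¹)⁻¹ := by group
      _ = j⁻¹ := by rw [hej]; group
  by_cases hex : ∃ w, orderOf w = 2 ∧ Commute w u ∧ w ≠ u
  · obtain ⟨w, hw, hwu, hne⟩ := hex
    have hwd : w • d = d := hUd w ((hmemU w).2 hwu)
    have hp2 : orderOf (u * w) = 2 := by
      refine Invol.invol_iff.2 ⟨?_, fun e => hne ?_⟩
      · calc u * w * (u * w) = u * (w * u) * w := by group
          _ = u * (u * w) * w := by rw [hwu.eq]
          _ = (u * u) * (w * w) := by group
          _ = 1 := by rw [hu2, Invol.invol_mul_self hw, one_mul]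
      · rw [eq_inv_of_mul_eq_one_right e, Invol.invol_inv hu]
    refine H.not_commute_invol hi hj hab hja hjb hp2 ?_
    show j * (u * w) = u * w * j
    calc j * (u * w) = (u * j * u⁻¹)⁻¹ * (u * w) := by rw [huj, inv_inv]
      _ = u * j⁻¹ * w := by group
      _ = u * (w * j * w⁻¹) * w := by rw [hall w hw hwd]
      _ = u * w * j := by group
  · push Not at hex
    have hiso : Cfsg.IsIsolatedInvolution u :=
      ⟨hu, fun g hg => hex _ (Invol.invol_conj hu g) hg.symm⟩
    have hz := Invol.zstar hiso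
    have hO : Cfsg.pPrimeCore 2 G ≠ ⊥ := by
      intro hO
      have hc := Invol.eq_of_zcentral_bot hz hO
      haveI := H.two
      haveI : IsPretransitive G Ω := isPretransitive_of_is_two_pretransitive
      obtain ⟨g, hg⟩ := exists_smul_eq G d a
      refine had (huniq a ?_).symm
      rw [← hg, ← mul_smul, ← Subgroup.mem_center_iff.1 hc g, mul_smul, hud]
    have hodd' : Odd (Nat.card (Cfsg.pPrimeCore 2 G)) :=
      Nat.coprime_two_right.1 (Coprime.pPrimeCore_coprime Nat.prime_two)
    haveI hsol := FT.isSolvable_of_odd (Cfsg.pPrimeCore 2 G) hodd'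
    obtain ⟨A, hA, hA1, hAc⟩ := exists_nontrivial_abelian_normal_below hO
    exact hreg (regular_of_abelian H.two A hA hA1 hAc)

end Hyp

end CfsgLib.Perm.ConstFix
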