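import Cfsg.Agent.Lib.Perm.ConstantFixity.Large
import Cfsg.Agent.Lib.Perm.ConstantFixity.Small
import Cfsg.Agent.Lib.Lie.Zassenhaus.Normal
import Cfsg.Agent.Lib.SzUnique.Main

/-!
# Classification of two-transitive groups with constant fixity on an involution centralizer
-/

set_option autoImplicit false
set_option linter.unusedSectionVars false
set_option linter.style.haveILetI false

namespace CfsgLib.Perm.ConstFix

open MulAction Subgroup

variable {G Ω : Type*} [Group G] [MulAction G Ω] [Finite G] [Fintype Ω]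

/-- A sharply two-transitive group has a regular normal subgroup (the Frobenius kernel). -/
theorem regular_of_sharp [FaithfulSMul G Ω] [IsPretransitive G Ω] {a b : Ω} (hab : a ≠ b)
    (hsharp : ∀ g : G, ∀ c d : Ω, c ≠ d → g • c = c → g • d = d → g = 1)
    (hstab : stabilizer G a ≠ ⊥) : HasRegularNormal G Ω := by
  classical
  set M := stabilizer G a with hM
  have hfro : Cfsg.IsFrobeniusComplement M := by
    refine ⟨hstab, fun h => ?_, fun g hg => ?_⟩
    · obtain ⟨k, hk⟩ := exists_smul_eq G a b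
      have : k ∈ M := h ▸ mem_top k
      exact hab (hk ▸ mem_stabilizer_iff.1 this).symm
    · rw [eq_bot_iff]
      rintro x ⟨hx, hx'⟩
      obtain ⟨y, hy, rfl⟩ := hx'
      rw [Subgroup.mem_bot]
      refine hsharp _ a (g • a) (fun h => hg (mem_stabilizer_iff.2 h.symm)) (mem_stabilizer_iff.1 hx) ?_
      show (g * y * g⁻¹) • g • a = g • a
      rw [mul_smul, mul_smul, inv_smul_smul, mem_stabilizer_iff.1 hy]
  obtain ⟨K, hK, hKn, -⟩ := Coprime.frob_kernel_subgroup hfro
  have hfree : ∀ u ∈ K, u ≠ 1 → ∀ c : Ω, u • c ≠ c := by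
    intro u hu hu1 c hc
    obtain ⟨k, rfl⟩ := exists_smul_eq G a c
    have hu' : u ∈ Cfsg.frobeniusKernel M := hK ▸ hu
    rcases hu' with h | h
    · exact hu1 h
    · refine h k ⟨k⁻¹ * u * k, ?_, ?_⟩
      · show (k⁻¹ * u * k) • a = a
        rw [mul_smul, mul_smul, hc, inv_smul_smul]
      · show k * (k⁻¹ * u * k) * k⁻¹ = u
        group
  have hcard : Nat.card K = Nat.card Ω := by
    have h1 : Nat.card K = Nat.card (Cfsg.frobeniusKernel M) := by rw [← hK]; rfl
    rw [h1, Coprime.frob_card_kernel hfro, hM, index_stabilizer_of_transitive]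
  have hfree' : ∀ x : Ω, ∀ r ∈ K, r • x = x → r = 1 := fun x r hr hx => by
    by_contra h
    exact hfree r hr h x hx
  refine ⟨K, hKn, fun x y => ?_, hfree'⟩
  have hbij : Function.Bijective (fun u : K => (u : G) • x) := by
    refine (Nat.bijective_iff_injective_and_card _).2 ⟨fun u v e => ?_, hcard⟩
    have : ((v⁻¹ * u : K) : G) = 1 := hfree' x _ (v⁻¹ * u : K).2 (by
      show ((v : G)⁻¹ * u) • x = x
      rw [mul_smul, show (u : G) • x = (v : G) • x from e, inv_smul_smul])
    exact Subtype.ext (inv_mul_eq_one.1 this).symm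
  obtain ⟨u, hu⟩ := hbij.2 y
  exact ⟨u, u.2, hu⟩

namespace Hyp

variable {i : ℕ} {t : G}

theorem three_or_regular (H : Hyp Ω i t) :
    (∀ g : G, ∀ a b c : Ω, a ≠ b → b ≠ c → a ≠ c → g • a = a → g • b = b → g • c = c → g = 1) ∨
      HasRegularNormal G Ω := by
  rcases Nat.lt_or_ge i 2 with hi | hi
  · exact H.three_of_lt_two hi
  · exact Or.inl fun g a b c hab hbc hac => H.three_of_two_le hi hab hbc hac

theorem classify (H : Hyp Ω i t) :
    (∃ (F : Type) (_ : Field F) (_ : Fintype F), Nonempty (G ≃* Matrix.ProjectiveSpecialLinearGroup (Fin 2) F)) ∨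
      Cfsg.Lie.IsoSuzuki G ∨ HasRegularNormal G Ω := by
  classical
  haveI := H.faith
  by_cases hreg : HasRegularNormal G Ω
  · exact Or.inr (Or.inr hreg)
  have h3 := H.three_or_regular.resolve_right hreg
  haveI := H.two
  haveI htr : IsPretransitive G Ω := isPretransitive_of_is_two_pretransitive
  obtain ⟨x, hx⟩ := H.exists_moved
  have hfix2 : ∃ g : G, g ≠ 1 ∧ ∃ a b : Ω, a ≠ b ∧ g • a = a ∧ g • b = b := by
    by_contra h
    push Not at h
    have hsharp : ∀ g : G, ∀ c d : Ω, c ≠ d → g • c = c → g • d = d → g = 1 := fun g c d hcd h1 h2 => by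
      by_contra hg
      exact h g hg c d hcd h1 h2
    by_cases hs : stabilizer G x = ⊥
    · refine hreg ⟨⊤, inferInstance, fun p q => ?_, fun p r _ hp => ?_⟩
      · obtain ⟨g, hg⟩ := exists_smul_eq G p q
        exact ⟨g, mem_top g, hg⟩
      · obtain ⟨g, hg⟩ := exists_smul_eq G x p
        have : g⁻¹ * r * g ∈ stabilizer G x := by
          rw [mem_stabilizer_iff, mul_smul, mul_smul, hg, hp, ← hg, inv_smul_smul]
        rw [hs, mem_bot] at this
        calc r = g * (g⁻¹ * r * g) * g⁻¹ := by group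
          _ = 1 := by rw [this]; group
    · exact hreg (regular_of_sharp (Ne.symm hx) hsharp hs)
  have hZ : Cfsg.IsZassenhausGroup G Ω := by
    refine ⟨H.faith, H.two, h3, hfix2, fun N hN hNt => ?_⟩
    by_contra h
    push Not at h
    refine hreg ⟨N, hN, fun p q => ?_, fun p r hr hp => ?_⟩
    · obtain ⟨g, hg⟩ := exists_smul_eq N p q
      exact ⟨g, g.2, hg⟩
    · have : (⟨r, hr⟩ : N) ∈ stabilizer N p := hp
      rw [h p, mem_bot] at this
      exact congrArg Subtype.val this
  haveI : Nontrivial G := ⟨⟨t, 1, Invol.invol_ne_one H.inv⟩⟩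
  haveI : IsSimpleGroup G := by
    refine ⟨fun N hN => or_iff_not_imp_left.2 fun hN1 => ?_⟩
    haveI := hN
    have h2 := Lie.ZassenhausNormal.two_transitive_normal hZ N hN1
    have hab : x ≠ t • x := Ne.symm hx
    obtain ⟨g, hg1, hg2⟩ := is_two_pretransitive_iff.1 h2 hab hab.symm
    have hgc : IsConj t (g : G) := H.swap_isConj hab hg1 hg2
    have hinvN : ∀ w : G, orderOf w = 2 → w ∈ N := fun w hw => by
      obtain ⟨k, hk⟩ := isConj_iff.1 (hgc.symm.trans (H.invol_isConj hw))
      exact hk ▸ hN.conj_mem _ g.2 k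
    refine eq_top_iff.2 fun y _ => ?_
    obtain ⟨n, hn1, hn2⟩ := is_two_pretransitive_iff.1 h2 hab
      (show y • x ≠ y • t • x from fun e => hab (smul_left_cancel y e))
    obtain ⟨d, hd⟩ : ∃ d, d = (n : G)⁻¹ * y := ⟨_, rfl⟩
    have hdx : d • x = x := by rw [hd, mul_smul, inv_smul_eq_iff]; exact hn1.symm
    have hdy : d • t • x = t • x := by rw [hd, mul_smul, inv_smul_eq_iff]; exact hn2.symm
    have e1 : orderOf ((g : G) * d) = 2 :=
      H.swap_invol hab (by rw [mul_smul, hdx]; exact hg1) (by rw [mul_smul, hdy]; exact hg2)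
    have hs : d ∈ N := by
      rw [show d = (g : G)⁻¹ * ((g : G) * d) by group]
      exact mul_mem (inv_mem g.2) (hinvN _ e1)
    rw [show y = (n : G) * d by rw [hd]; group]
    exact mul_mem n.2 hs
  rcases SzUnique.psl_or_isoSuzuki hZ with h | h
  · exact Or.inl h
  · exact Or.inr (Or.inl h)

end Hyp

end CfsgLib.Perm.ConstFix
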